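import Mathlib
import Cfsg.Agent.Transfer.Frobenius
import Cfsg.Agent.PLocal.AmbSyl
import Cfsg.Agent.S0205
import Cfsg.Agent.S3861

/-! Real elements and coprime action on 2-groups. -/

set_option autoImplicit false
set_option linter.style.haveILetI false

namespace Cfsg.Agent.RealCls

open Cfsg Cfsg.Agent Subgroup Cfsg.Agent.PLocal.Amb

variable {G : Type*} [Group G] [Finite G]

/-- An element of odd order normalizing a 2-group `B` and centralizing its real elements
centralizes `B`. -/
theorem mem_cent_of_real {B : Subgroup G} (hB : IsPGroup 2 B) {g : G} (hg : g ∈ 𝐍[B])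
    (hc : (orderOf g).Coprime 2)
    (h : ∀ x ∈ B, ∀ w ∈ B, x * w * x⁻¹ = w⁻¹ → g * w = w * g) : g ∈ 𝐂[B] := by
  have key : ∀ (k : ℕ) (x : G), x ∈ B → x ^ 2 ^ k = 1 → g * x * g⁻¹ = x := by
    intro k
    induction k with
    | zero => intro x _ hx; rw [pow_zero, pow_one] at hx; simp [hx]
    | succ k ih =>
      intro x hx hk
      have h1 := ih (x ^ 2) (pow_mem hx 2) (by rw [← pow_mul, ← pow_succ', hk])
      set y := g * x * g⁻¹ with hy
      have h2 : y * y = x * x := by rw [← sq, ← sq, ← h1, hy, conj_pow]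
      have hw : x⁻¹ * y ∈ B := mul_mem (inv_mem hx) (conj_mem_of_mem_normalizer hg hx)
      have h3 : Commute g (x⁻¹ * y) := h x hx (x⁻¹ * y) hw (by
        calc x * (x⁻¹ * y) * x⁻¹ = y⁻¹ * (y * y) * x⁻¹ := by group
          _ = _ := by rw [h2]; group)
      set w := x⁻¹ * y with hw'
      have h4 : ∀ n : ℕ, g ^ n * x * (g ^ n)⁻¹ = x * w ^ n := by
        intro n
        induction n with
        | zero => simp
        | succ n ih =>
          have e := (h3.pow_right n).eq
          calc g ^ (n + 1) * x * (g ^ (n + 1))⁻¹ = g * (g ^ n * x * (g ^ n)⁻¹) * g⁻¹ := by group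
            _ = y * (g * w ^ n) * g⁻¹ := by rw [ih, hy]; group
            _ = x * w * (w ^ n * g) * g⁻¹ := by rw [e, hw', mul_inv_cancel_left]
            _ = x * w ^ (n + 1) := by group
      have h5 := h4 (orderOf g)
      rw [pow_orderOf_eq_one, one_mul, inv_one, mul_one, left_eq_mul,
        ← orderOf_dvd_iff_pow_eq_one] at h5
      have h6 := Transfer.eq_one_of_mem_isPGroup_of_coprime hB hw (hc.coprime_dvd_left h5)
      exact (inv_mul_eq_one.1 h6).symm
  intro x hx
  obtain ⟨k, hk⟩ := hB ⟨x, hx⟩
  have := key k x hx (congrArg Subtype.val hk)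
  rw [mul_inv_eq_iff_eq_mul] at this
  exact this.symm

theorem normal_of_zero (h : ∀ x : G, IsConj x x⁻¹ → x ∉ center G →
    (centralizer ({x} : Set G)).index.factorization 2 = 0) (S : Sylow 2 G) :
    (S : Subgroup G).Normal := by
  refine (S3861.result S).1 fun x hx1 hx hc => ?_
  have h1 : x ^ 2 = 1 := by
    refine (S3863.result x hc).2.1 ?_
    by_cases hz : x ∈ center G
    · rw [centralizer_eq_top_iff_subset.2 (by simpa using hz), index_top]
      exact odd_one
    · exact Nat.not_even_iff_odd.1 fun e => (Nat.Prime.factorization_pos_of_dvd Nat.prime_two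
        index_ne_zero_of_finite e.two_dvd).ne' (h x hc hz)
  exact hx1 (orderOf_eq_one_iff.1 (Nat.eq_one_of_dvd_coprimes (Nat.coprime_two_right.2 hx)
    dvd_rfl (orderOf_dvd_of_pow_eq_one h1)))

theorem factorization_eq_zero {p : ℕ} [Fact p.Prime] (S : Sylow p G) {H : Subgroup G}
    (h : (S : Subgroup G) ≤ H) : H.index.factorization p = 0 :=
  Nat.factorization_eq_zero_of_not_dvd fun e => S.not_dvd_index (e.trans (index_dvd_of_le h))

theorem isSolvable_of_normal (S : Sylow 2 G) [(S : Subgroup G).Normal] : Group.IsSolvable G :=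
  haveI := S.isPGroup'.isNilpotent
  (Group.isSolvable_iff_subgroup_quotient (S : Subgroup G)).2
    ⟨inferInstance, S0205.result (Nat.not_even_iff_odd.1 fun e => S.not_dvd_index e.two_dvd)⟩

theorem isSolvable_of_nilp (h : HasNormalPComplement 2 G) : Group.IsSolvable G := by
  obtain ⟨N, _, hN, k, hk⟩ := Transfer.hasNormalPComplement_iff_exists_normal.1 h
  haveI := (IsPGroup.of_card (G := G ⧸ N) hk).isNilpotent
  exact (Group.isSolvable_iff_subgroup_quotient N).2
    ⟨S0205.result (Nat.coprime_two_right.1 hN), inferInstance⟩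

end Cfsg.Agent.RealCls
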